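import Mathlib.Dynamics.Newton
import Mathlib.RingTheory.Artinian.Module
import Mathlib.RingTheory.Polynomial.SeparableDegree
import Mathlib.FieldTheory.Minpoly.Field
import Mathlib.Algebra.CharP.Lemmas

/-!
Roots modulo powers, and reduced finite algebras whose separable elements are scalars.
-/

set_option autoImplicit false
universe u

open Polynomial

namespace Groth.L26.TorsRed

section Hensel

variable {A B : Type u} [CommRing A] [CommRing B] (π : A →+* B) (t : A)
  (hker : ∀ a, π a = 0 → ∃ m : ℕ, t ∣ a ^ m)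

include hker in
theorem isNilpotent_mk {a : A} (ha : π a = 0) (n : ℕ) :
    IsNilpotent (Ideal.Quotient.mk (Ideal.span {t ^ n}) a) := by
  obtain ⟨m, hm⟩ := hker a ha
  refine ⟨m * n, ?_⟩
  rw [← map_pow, Ideal.Quotient.eq_zero_iff_mem, Ideal.mem_span_singleton, pow_mul]
  exact pow_dvd_pow_of_dvd hm n

include hker in
theorem isUnit_mk (hπ : Function.Surjective π) {a : A} (ha : IsUnit (π a)) (n : ℕ) :
    IsUnit (Ideal.Quotient.mk (Ideal.span {t ^ n}) a) := by
  obtain ⟨b', hb'⟩ := ha.exists_right_inv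
  obtain ⟨b, rfl⟩ := hπ b'
  have h := (isNilpotent_mk π t hker (a := a * b - 1) (by rw [map_sub, map_mul, hb', map_one, sub_self]) n)
  rw [map_sub, map_one] at h
  have h1 := h.isUnit_add_one
  rw [sub_add_cancel, map_mul] at h1
  exact isUnit_of_mul_isUnit_left h1

variable (hπ : Function.Surjective π) (P : A[X]) {v : A} (hv : π (P.eval v) = 0)
  (hv' : IsUnit (π (P.derivative.eval v))) (n : ℕ)

include hker hπ hv hv' in
theorem existsUnique_root_quot :
    ∃! r : A ⧸ Ideal.span {t ^ n}, IsNilpotent (Ideal.Quotient.mk _ v - r) ∧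
      aeval r (P.map (Ideal.Quotient.mk (Ideal.span {t ^ n}))) = 0 := by
  refine Polynomial.existsUnique_nilpotent_sub_and_aeval_eq_zero ?_ ?_
  · rw [coe_aeval_eq_eval, eval_map, eval₂_hom]
    exact isNilpotent_mk π t hker hv n
  · rw [coe_aeval_eq_eval, derivative_map, eval_map, eval₂_hom]
    exact isUnit_mk π t hker hπ hv' n

variable [_root_.IsReduced B] (ht : π t = 0) (hn : 1 ≤ n)

include hker hπ hv hv' ht hn in
theorem exists_root : ∃ g : A, π g = π v ∧ t ^ n ∣ P.eval g := by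
  obtain ⟨r, ⟨h1, h2⟩, -⟩ := existsUnique_root_quot π t hker hπ P hv hv' n
  obtain ⟨g, rfl⟩ := Ideal.Quotient.mk_surjective r
  rw [coe_aeval_eq_eval, eval_map, eval₂_hom, Ideal.Quotient.eq_zero_iff_mem, Ideal.mem_span_singleton] at h2
  refine ⟨g, ?_, h2⟩
  obtain ⟨m, hm⟩ := h1
  rw [← map_sub, ← map_pow, Ideal.Quotient.eq_zero_iff_mem, Ideal.mem_span_singleton] at hm
  have h0 : π ((v - g) ^ m) = 0 := by
    obtain ⟨c, hc⟩ := hm
    rw [hc, map_mul, map_pow, ht, zero_pow (by omega), zero_mul]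
  rw [map_pow] at h0
  have h := IsReduced.eq_zero _ ⟨m, h0⟩
  rw [map_sub, sub_eq_zero] at h
  exact h.symm

omit [_root_.IsReduced B] in
include hker hπ hv hv' in
theorem root_unique {g g' : A} (h : π g = π v) (h' : π g' = π v) (hg : t ^ n ∣ P.eval g)
    (hg' : t ^ n ∣ P.eval g') : t ^ n ∣ g - g' := by
  rw [← Ideal.mem_span_singleton, ← Ideal.Quotient.eq]
  refine (existsUnique_root_quot π t hker hπ P hv hv' n).unique ⟨?_, ?_⟩ ⟨?_, ?_⟩
  · rw [← map_sub]; exact isNilpotent_mk π t hker (by rw [map_sub, h, sub_self]) n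
  · rw [coe_aeval_eq_eval, eval_map, eval₂_hom, Ideal.Quotient.eq_zero_iff_mem, Ideal.mem_span_singleton]
    exact hg
  · rw [← map_sub]; exact isNilpotent_mk π t hker (by rw [map_sub, h', sub_self]) n
  · rw [coe_aeval_eq_eval, eval_map, eval₂_hom, Ideal.Quotient.eq_zero_iff_mem, Ideal.mem_span_singleton]
    exact hg'

end Hensel

section Algebra

variable {k A : Type u} [Field k] [CommRing A] [Algebra k A] [Module.Finite k A] [_root_.IsReduced A]
  [Nontrivial A]
  (hsep : ∀ (a : A) (P : k[X]), aeval a P = 0 → IsUnit (aeval a P.derivative) →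
    a ∈ Set.range (algebraMap k A))

include hsep in
theorem isField_of_sep : IsField A := by
  haveI : IsArtinianRing A := IsArtinianRing.of_finite k A
  refine ⟨⟨0, 1, zero_ne_one⟩, mul_comm, fun {a} ha => ?_⟩
  obtain ⟨n, y, hy⟩ := IsArtinian.exists_pow_succ_smul_dvd (M := A) a (1 : A)
  rw [smul_eq_mul, smul_eq_mul, mul_one] at hy
  have h1 : a * (1 - a * y) = 0 := by
    refine IsReduced.eq_zero _ ⟨n + 1, ?_⟩
    have h0 : a ^ n * (1 - a * y) = 0 := by
      rw [mul_sub, mul_one, ← mul_assoc, ← pow_succ, hy, sub_self]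
    rw [mul_pow, pow_succ a n, pow_succ (1 - a * y) n]
    calc a ^ n * a * ((1 - a * y) ^ n * (1 - a * y))
        = (a ^ n * (1 - a * y)) * (a * (1 - a * y) ^ n) := by ring
      _ = 0 := by rw [h0, zero_mul]
  have he : (a * y) * (a * y) = a * y := by linear_combination -y * h1
  obtain ⟨c, hc⟩ := hsep (a * y) (X ^ 2 - X) (by simp [pow_two, he]) (by
    simp only [derivative_sub, derivative_X_pow, derivative_X, map_sub, map_mul, aeval_C, map_natCast,
      map_pow, aeval_X, map_one]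
    refine IsUnit.of_mul_eq_one (((2 : ℕ) : A) * (a * y) ^ (2 - 1) - 1) ?_
    push_cast
    linear_combination (4 : A) * he)
  have hcc : c * c = c := (algebraMap k A).injective (by rw [map_mul, hc, he])
  rcases eq_or_ne c 0 with h0 | h0
  · exfalso
    refine ha ?_
    rw [h0, map_zero] at hc
    linear_combination h1 + a * hc.symm
  · refine ⟨y, ?_⟩
    rw [← hc, mul_right_cancel₀ h0 (hcc.trans (one_mul c).symm), map_one]

include hsep in
/-- A power prime to `h` is a scalar, so units are scalars up to `h`-th powers. -/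
theorem exists_scalar_mul_pow {h : ℕ} (hchar : ∀ q : ℕ, q.Prime → CharP k q → ¬ q ∣ h) (u : Aˣ) :
    ∃ (r : kˣ) (w : Aˣ), (u : A) = algebraMap k A r * (w : A) ^ h := by
  obtain ⟨q, hq⟩ := ExpChar.exists k
  letI := (isField_of_sep hsep).toField
  have hint : _root_.IsIntegral k (u : A) := Algebra.IsIntegral.isIntegral _
  obtain ⟨g, hg, m, hm⟩ := (minpoly.irreducible hint).hasSeparableContraction q
  have h0 : aeval ((u : A) ^ q ^ m) g = 0 := by
    rw [← expand_aeval, hm, minpoly.aeval]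
  obtain ⟨c, hc⟩ := hsep _ g h0 (by
    obtain ⟨a, b, hab⟩ := hg
    refine IsUnit.of_mul_eq_one (aeval ((u : A) ^ q ^ m) b) ?_
    have := congrArg (aeval ((u : A) ^ q ^ m)) hab
    rw [map_add, map_mul, map_mul, map_one, h0, mul_zero, zero_add] at this
    exact (mul_comm _ _).trans this)
  have hc0 : c ≠ 0 := fun e => (pow_ne_zero _ u.ne_zero) (by rw [← hc, e, map_zero])
  have hcop : Nat.Coprime (q ^ m) h := by
    cases hq with
    | zero => simp
    | prime hp => exact ((Nat.Prime.coprime_iff_not_dvd hp).2 (hchar q hp inferInstance)).pow_left m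
  have hb : ((q ^ m : ℕ) : ℤ) * Nat.gcdA (q ^ m) h + (h : ℤ) * Nat.gcdB (q ^ m) h = 1 := by
    rw [← Nat.gcd_eq_gcd_ab, hcop.gcd_eq_one]
    rfl
  refine ⟨Units.mk0 c hc0 ^ Nat.gcdA (q ^ m) h, u ^ Nat.gcdB (q ^ m) h, ?_⟩
  have hu : u ^ (q ^ m) = Units.map (algebraMap k A).toMonoidHom (Units.mk0 c hc0) := Units.ext (by
    simp [hc])
  calc (u : A) = ((u ^ (1 : ℤ) : Aˣ) : A) := by rw [zpow_one]
    _ = (((u ^ (q ^ m)) ^ Nat.gcdA (q ^ m) h * (u ^ Nat.gcdB (q ^ m) h) ^ h : Aˣ) : A) := by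
      congr 1
      rw [← zpow_natCast u (q ^ m), ← zpow_natCast (u ^ Nat.gcdB (q ^ m) h) h, ← zpow_mul, ← zpow_mul,
        ← zpow_add, mul_comm (Nat.gcdB (q ^ m) h), hb]
    _ = _ := by
      rw [hu, ← map_zpow, Units.val_mul, Units.val_pow_eq_pow_val]
      rfl

end Algebra

end Groth.L26.TorsRed
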