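import Groth.Agent.L05.CohFlat.Main
import Groth.Agent.L22.Bundle.SecBasis

/-!
Compatible sections modulo all powers of the uniformizer give a global section modulo the uniformizer.
-/

set_option autoImplicit false
set_option backward.isDefEq.respectTransparency false
set_option linter.style.haveILetI false
set_option linter.unusedSectionVars false
universe u

open CategoryTheory CategoryTheory.Limits AlgebraicGeometry TopologicalSpace Opposite

noncomputable section

namespace Groth.L26.TorsRed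

open Groth.L16.CohLinear (hmap delta exact_hmap_delta)
open Groth.L18.Frame (IsFrame rs ro rs_rs rs_smul ro_ro)
open Groth.L14.Quot (smulMod smulMod_app)

variable {R : Type u} [CommRing R] [IsDomain R] [IsDiscreteValuationRing R]
  {X : Over (Spec (CommRingCat.of R))} [IsProper X.hom] [IsLocallyNoetherian X.left] [Flat X.hom]
  [IsIntegral X.left]

/-- Scalars on an open. -/
def sc (U : X.left.Opens) : R →+* Γ(X.left, U) :=
  (X.left.presheaf.map (homOfLE (le_top : U ≤ ⊤)).op).hom.comp (Coh.toGlobal X.hom)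

theorem ro_sc {U V : X.left.Opens} (h : V ≤ U) (a : R) : ro h (sc U a) = sc V a := ro_ro _ _ _

theorem smulMod_toGlobal_app (L : X.left.Modules) (a : R) (U : X.left.Opens) (m : Γ(L, U)) :
    (smulMod L (Coh.toGlobal X.hom a)).app U m = sc U a • m := smulMod_app L _ U m

theorem app_rs {M N : X.left.Modules} (f : M ⟶ N) {U V : X.left.Opens} (h : V ≤ U) (m : Γ(M, U)) :
    f.app V (rs M h m) = rs N h (f.app U m) := congr($(f.mapPresheaf.naturality (homOfLE h).op) m)

/-- Multiplication by a nonzero scalar is injective on invertible modules. -/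
theorem mono_smulMod {L : X.left.Modules} (hL : PicF.IsInvertible L) {a : R} (ha : a ≠ 0) :
    Mono (smulMod L (Coh.toGlobal X.hom a)) := by
  have hinj : ∀ U : X.left.Opens, Function.Injective ((smulMod L (Coh.toGlobal X.hom a)).app U) := fun U => by
    refine (injective_iff_map_eq_zero _).2 fun m hm => ?_
    refine Groth.L21.Extend.eq_of_locally L m 0 fun y hy => ?_
    obtain ⟨W, e, hyW, he⟩ := Groth.L18.Frame.exists_frame hL y
    refine ⟨U ⊓ W, inf_le_left, ⟨hy, hyW⟩, ?_⟩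
    show rs L inf_le_left m = rs L inf_le_left 0
    obtain ⟨c, hc⟩ := he.exists_coeff (inf_le_right : U ⊓ W ≤ W) (rs L inf_le_left m)
    have h1 : (sc (U ⊓ W) a * c) • rs L (inf_le_right : U ⊓ W ≤ W) e = 0 := by
      rw [mul_smul, hc, ← ro_sc (inf_le_left : U ⊓ W ≤ U), ← rs_smul, ← smulMod_toGlobal_app, hm]
      exact map_zero _
    have h2 : sc (U ⊓ W) a * c = 0 := he.inj inf_le_right (h1.trans (zero_smul _ _).symm)
    have h3 : c = 0 := (mem_nonZeroDivisors_iff.1 (Groth.L05.CohFlat.mem_nonZeroDivisors_ro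
      (Groth.L05.CohFlat.toGlobal_ne_zero ha) (U ⊓ W) ⟨⟨y, hy, hyW⟩⟩)).1 c h2
    rw [← hc, h3, zero_smul]
    exact (map_zero _).symm
  haveI : ∀ U : (Opens X.left)ᵒᵖ, Mono ((smulMod L (Coh.toGlobal X.hom a)).mapPresheaf.app U) := fun U =>
    (AddCommGrpCat.mono_iff_injective _).2 (hinj U.unop)
  refine ⟨fun {Z} g h hgh => ?_⟩
  ext U m
  exact hinj U (congr($(hgh).app U m))

/-- The sequence of multiplication by a scalar. -/
abbrev mulSeq (L : X.left.Modules) (a : R) : ShortComplex X.left.Modules :=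
  ShortComplex.mk (smulMod L (Coh.toGlobal X.hom a)) (cokernel.π _) (cokernel.condition _)

theorem shortExact_mulSeq {L : X.left.Modules} (hL : PicF.IsInvertible L) {a : R} (ha : a ≠ 0) :
    (mulSeq L a).ShortExact :=
  haveI := mono_smulMod (X := X) hL ha
  { exact := ShortComplex.exact_cokernel _ }

/-- Compatible families of sections modulo all powers of `ϖ` come from a global section modulo `ϖ`. -/
theorem exists_section {L : X.left.Modules} (hL : PicF.IsInvertible L) {ϖ : R} (hϖ : Irreducible ϖ)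
    {ι : Type u} (V : ι → X.left.Opens) (hcov : ∀ x, ∃ i, x ∈ V i) (s : ℕ → ∀ i, Γ(L, V i))
    (hcompat : ∀ n i j, ∃ c : Γ(L, V i ⊓ V j),
      rs L inf_le_left (s n i) - rs L inf_le_right (s n j) = sc (V i ⊓ V j) (ϖ ^ (n + 1)) • c)
    (hstab : ∀ n i, ∃ c : Γ(L, V i), s n i - s 0 i = sc (V i) ϖ • c) :
    ∃ S : Γ(L, ⊤), ∀ i, ∃ c : Γ(L, V i), rs L le_top S - s 0 i = sc (V i) ϖ • c := by
  letI : X.left.Over (Spec (CommRingCat.of R)) := ⟨X.hom⟩
  haveI : IsProper (X.left ↘ Spec (CommRingCat.of R)) := ‹IsProper X.hom›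
  have hne : ∀ n : ℕ, (ϖ ^ (n + 1) : R) ≠ 0 := fun n => pow_ne_zero _ hϖ.ne_zero
  have hS := fun n : ℕ => shortExact_mulSeq (X := X) hL (hne n)
  let π : ∀ n : ℕ, L ⟶ (mulSeq L (ϖ ^ (n + 1))).X₃ := fun n => (mulSeq L (ϖ ^ (n + 1))).g
  have hπ0 : ∀ (n : ℕ) (U : X.left.Opens) (c : Γ(L, U)), (π n).app U (sc U (ϖ ^ (n + 1)) • c) = 0 := fun n U c => by
    rw [← smulMod_toGlobal_app]
    exact congr(($((mulSeq L (ϖ ^ (n + 1))).zero)).app U c)
  choose σ hσ' using fun n : ℕ => Groth.L21.Extend.exists_glue (mulSeq L (ϖ ^ (n + 1))).X₃ V ⊤ (fun _ => le_top)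
    (fun y _ => hcov y) (fun i => (π n).app (V i) (s n i)) fun i j => by
      obtain ⟨c, hc⟩ := hcompat n i j
      show rs _ inf_le_left _ = rs _ inf_le_right _
      rw [← app_rs, ← app_rs, ← sub_eq_zero, ← map_sub, hc]
      exact hπ0 n _ c
  have hσ : ∀ (n : ℕ) (i : ι), rs (mulSeq L (ϖ ^ (n + 1))).X₃ (le_top : V i ≤ ⊤) (σ n) =
      (π n).app (V i) (s n i) := hσ'
  let T := fun n : ℕ => mulSeq L (ϖ ^ (n + 1))
  let e := fun M : X.left.Modules => Groth.L21.RR.e0 M
  let y : ∀ n, Coh.HH X.left (T n).X₃ 0 := fun n => (e _).symm (σ n)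
  have hdiv : ∀ n : ℕ, ∃ z : Coh.HH X.left L 1, delta (hS 0) 0 (y 0) = (ϖ ^ n) • z := fun n => by
    have hmul : smulMod L (Coh.toGlobal X.hom (ϖ ^ n)) ≫ smulMod L (Coh.toGlobal X.hom (ϖ ^ (0 + 1))) =
        smulMod L (Coh.toGlobal X.hom (ϖ ^ (n + 1))) := by
      ext U m
      show (smulMod L (Coh.toGlobal X.hom (ϖ ^ (0 + 1)))).app U
        ((smulMod L (Coh.toGlobal X.hom (ϖ ^ n))).app U m) = _
      rw [smulMod_toGlobal_app, smulMod_toGlobal_app, smulMod_toGlobal_app, smul_smul, ← map_mul, ← pow_add]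
      congr 3
      omega
    have hz : smulMod L (Coh.toGlobal X.hom (ϖ ^ (n + 1))) ≫ π 0 = 0 := by
      rw [← hmul, Category.assoc]
      exact (congrArg _ (mulSeq L (ϖ ^ (0 + 1))).zero).trans comp_zero
    let τ : (T n).X₃ ⟶ (T 0).X₃ := cokernel.desc _ (π 0) hz
    have hτ : π n ≫ τ = π 0 := cokernel.π_desc _ _ _
    let φ : T n ⟶ T 0 :=
      { τ₁ := smulMod L (Coh.toGlobal X.hom (ϖ ^ n)), τ₂ := 𝟙 _, τ₃ := τ
        comm₁₂ := by
          show _ = smulMod L (Coh.toGlobal X.hom (ϖ ^ (n + 1))) ≫ 𝟙 _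
          rw [Category.comp_id]
          exact hmul
        comm₂₃ := by
          show 𝟙 _ ≫ π 0 = π n ≫ τ
          rw [Category.id_comp, hτ] }
    have hy : hmap φ.τ₃ 0 (y n) = y 0 := by
      refine (e _).injective ?_
      refine (Groth.L21.RR.e0_hmap _ _).trans ?_
      rw [AddEquiv.apply_symm_apply, AddEquiv.apply_symm_apply]
      refine Groth.L21.Extend.eq_of_locally _ _ _ fun x _ => ?_
      obtain ⟨i, hi⟩ := hcov x
      refine ⟨V i, le_top, hi, ?_⟩
      have h1 : rs (T 0).X₃ (le_top : V i ≤ ⊤) (τ.app ⊤ (σ n)) = (π 0).app (V i) (s n i) := by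
        rw [← app_rs]
        refine (congrArg (fun m => τ.app (V i) m) (hσ n i)).trans ?_
        exact congr(($hτ).app (V i) (s n i))
      refine h1.trans (Eq.trans ?_ (hσ 0 i).symm)
      obtain ⟨c, hc⟩ := hstab n i
      rw [← sub_eq_zero, ← map_sub, hc]
      have := hπ0 0 (V i) c
      simpa only [zero_add, pow_one] using this
    refine ⟨delta (hS n) 0 (y n), ?_⟩
    refine ((congrArg (delta (hS 0) 0) hy).symm.trans
      (Groth.L14.LocHilbLift.delta_natural (hS n) (hS 0) φ 0 (y n))).trans ?_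
    rfl
  haveI : Module.Finite R (Coh.HH X.left L 1) :=
    Groth.L16.ProperFinite.finite_HH R (Groth.L16.ProperFinite.isCoh_of_isInvertible hL) 1
  have hzero : delta (hS 0) 0 (y 0) = 0 := by
    have hmem : delta (hS 0) 0 (y 0) ∈ ⨅ n : ℕ, IsLocalRing.maximalIdeal R ^ n •
        (⊤ : Submodule R (Coh.HH X.left L 1)) := by
      rw [Submodule.mem_iInf]
      intro n
      obtain ⟨z, hz⟩ := hdiv n
      rw [hz]
      have hmϖ : ϖ ∈ IsLocalRing.maximalIdeal R := hϖ.maximalIdeal_eq ▸ Ideal.mem_span_singleton_self ϖ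
      exact Submodule.smul_mem_smul (Ideal.pow_mem_pow hmϖ n) trivial
    rw [Ideal.iInf_pow_smul_eq_bot_of_isLocalRing _ (IsLocalRing.maximalIdeal.isMaximal R).ne_top] at hmem
    exact hmem
  obtain ⟨x, hx⟩ := (exact_hmap_delta (hS 0) 0 (y 0)).1 hzero
  refine ⟨e L x, fun i => ?_⟩
  have h2 := congrArg (e (T 0).X₃) hx
  rw [AddEquiv.apply_symm_apply] at h2
  replace h2 := (Groth.L21.RR.e0_hmap (π 0) x).symm.trans h2
  have h3 : (π 0).app (V i) (rs L le_top (e L x) - s 0 i) = 0 := by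
    rw [map_sub, app_rs, h2, hσ, sub_self]
  obtain ⟨c, hc⟩ := Groth.L22.Bundle.app_exact (hS 0) (V i) _ h3
  refine ⟨c, ?_⟩
  rw [← hc]
  show (smulMod L (Coh.toGlobal X.hom (ϖ ^ (0 + 1)))).app (V i) c = _
  rw [smulMod_toGlobal_app, zero_add, pow_one]

end Groth.L26.TorsRed
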