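import Groth.Agent.L26.TorsRed.Alg
import Groth.Agent.L26.TorsRed.Lift
import Groth.Agent.L05.Models.DualRank

/-!
Sections lifting simple roots on a reduced closed fibre, and the functions on that fibre.
-/

set_option autoImplicit false
set_option backward.isDefEq.respectTransparency false
set_option linter.style.haveILetI false
set_option linter.unusedSectionVars false
universe u

open CategoryTheory CategoryTheory.Limits AlgebraicGeometry TopologicalSpace Opposite Polynomial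

noncomputable section

namespace Groth.L26.TorsRed

open Groth.L18.Frame (IsFrame rs ro rs_rs rs_smul ro_ro ro_mul ro_self rs_self)
open Groth.L20.PicThick (app_ro)

variable {R : Type u} [CommRing R] [IsDomain R] [IsDiscreteValuationRing R]
  {X : Over (Spec (CommRingCat.of R))} [IsProper X.hom] [IsLocallyNoetherian X.left] [Flat X.hom]
  [IsIntegral X.left]
  {Z : Scheme.{u}} (ι : Z ⟶ X.left) [IsClosedImmersion ι] [AlgebraicGeometry.IsReduced Z]
  (hrange : Set.range ι = Models.specialFibreSet R X)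
  {ϖ : R} (hϖ : Irreducible ϖ)

include hϖ in
theorem mem_fibre_iff (x : X.left) :
    x ∈ Models.specialFibreSet R X ↔ x ∉ X.left.basicOpen (sc (X := X) ⊤ ϖ) := by
  have hb : X.left.basicOpen (sc (X := X) ⊤ ϖ) = X.hom ⁻¹ᵁ PrimeSpectrum.basicOpen ϖ := by
    rw [show sc (X := X) ⊤ ϖ = X.hom.appTop ((Scheme.ΓSpecIso (CommRingCat.of R)).inv ϖ) from ro_self _ _,
      ← Scheme.preimage_basicOpen_top]
    congr 1
    exact basicOpen_eq_of_affine _
  rw [hb]
  show (show PrimeSpectrum R from X.hom x) = IsLocalRing.closedPoint R ↔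
    ¬ ϖ ∉ (show PrimeSpectrum R from X.hom x).asIdeal
  rw [not_not]
  generalize (show PrimeSpectrum R from X.hom x) = q
  constructor
  · rintro rfl
    show ϖ ∈ IsLocalRing.maximalIdeal R
    rw [hϖ.maximalIdeal_eq]
    exact Ideal.mem_span_singleton_self _
  · intro h
    refine PrimeSpectrum.ext (le_antisymm (IsLocalRing.le_maximalIdeal q.2.ne_top) ?_)
    show IsLocalRing.maximalIdeal R ≤ q.asIdeal
    rw [hϖ.maximalIdeal_eq, Ideal.span_le, Set.singleton_subset_iff]
    exact h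

include hrange hϖ in
theorem app_sc_eq_zero (U : X.left.Opens) : ι.app U (sc (X := X) U ϖ) = 0 := by
  have h : ι.app ⊤ (sc (X := X) ⊤ ϖ) = 0 := by
    refine (basicOpen_eq_bot_iff _).1 ?_
    rw [← Scheme.preimage_basicOpen]
    ext z
    exact ⟨fun hz => ((mem_fibre_iff (X := X) hϖ (ι z)).1 (hrange ▸ ⟨z, rfl⟩) hz).elim, fun hz => hz.elim⟩
  rw [← ro_sc (le_top : U ≤ ⊤), app_ro, h]
  exact map_zero _

include hrange hϖ in
theorem exists_dvd_pow {U : X.left.Opens} (hU : IsAffineOpen U) (a : Γ(X.left, U)) (ha : ι.app U a = 0) :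
    ∃ m : ℕ, sc (X := X) U ϖ ∣ a ^ m := by
  have hle : X.left.basicOpen a ≤ X.left.basicOpen (sc (X := X) U ϖ) := fun x hx => by
    have hxU : x ∈ U := X.left.basicOpen_le a hx
    have hnot : x ∉ Models.specialFibreSet R X := fun hfib => by
      rw [← hrange] at hfib
      obtain ⟨z, rfl⟩ := hfib
      have : z ∈ ι ⁻¹ᵁ X.left.basicOpen a := hx
      rw [Scheme.preimage_basicOpen, ha, Scheme.basicOpen_zero] at this
      exact this
    have h2 : x ∈ X.left.basicOpen (sc (X := X) ⊤ ϖ) := by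
      by_contra h2
      exact hnot ((mem_fibre_iff (X := X) hϖ x).2 h2)
    rw [← ro_sc (le_top : U ≤ ⊤)]
    show x ∈ X.left.basicOpen (X.left.presheaf.map (homOfLE le_top).op (sc (X := X) ⊤ ϖ))
    rw [Scheme.basicOpen_res]
    exact ⟨hxU, h2⟩
  have h2 : PrimeSpectrum.basicOpen a ≤ PrimeSpectrum.basicOpen (sc (X := X) U ϖ) := by
    rw [← hU.fromSpec_preimage_basicOpen, ← hU.fromSpec_preimage_basicOpen]
    exact hU.fromSpec.preimage_mono hle
  obtain ⟨m, hm⟩ := (PrimeSpectrum.basicOpen_le_basicOpen_iff _ _).1 h2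
  exact ⟨m, Ideal.mem_span_singleton.1 hm⟩

theorem exists_specializes (y : X.left) : ∃ x ∈ Models.specialFibreSet R X, y ⤳ x := by
  have hcl : IsClosed (X.hom '' closure {y}) := X.hom.isClosedMap _ isClosed_closure
  have h0 : IsLocalRing.closedPoint R ∈ X.hom '' closure {y} :=
    (IsLocalRing.specializes_closedPoint (show PrimeSpectrum R from X.hom y)).mem_closed hcl
      ⟨y, subset_closure rfl, rfl⟩
  obtain ⟨x, hx, hxc⟩ := h0
  exact ⟨x, hxc, specializes_iff_mem_closure.2 hx⟩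

/-- The scalars on the closed fibre. -/
abbrev gR : R →+* Γ(Z, ⊤) := ι.appTop.hom.comp (Coh.toGlobal X.hom)

theorem gR_eq (r : R) : gR ι r = ι.app ⊤ (sc (X := X) ⊤ r) := congrArg (ι.app ⊤) (ro_self _ _).symm

theorem ro_gR (U : X.left.Opens) (r : R) : ro (le_top : ι ⁻¹ᵁ U ≤ ⊤) (gR ι r) = ι.app U (sc (X := X) U r) := by
  rw [gR_eq]
  exact ((congrArg (ι.app U) (ro_sc (le_top : U ≤ ⊤) r)).symm.trans (app_ro ι (le_top : U ≤ ⊤) _)).symm

include hrange hϖ in
/-- Compatible simple roots lift to a global section. -/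
theorem exists_section_of_roots {L : X.left.Modules} (hL : PicF.IsInvertible L) {J : Type u}
    (V : J → X.left.Opens) (hV : ∀ i, IsAffineOpen (V i)) (hcov : ∀ x, ∃ i, x ∈ V i)
    (e : ∀ i, Γ(L, V i)) (he : ∀ i, IsFrame L (V i) (e i)) (P : ∀ i, Γ(X.left, V i)[X]) (v : ∀ i, Γ(X.left, V i))
    (hv : ∀ i, ι.app (V i) ((P i).eval (v i)) = 0)
    (hv' : ∀ i, IsUnit (ι.app (V i) ((P i).derivative.eval (v i))))
    (htr : ∀ (i j : J) (c : Γ(X.left, V i ⊓ V j)),
      c • rs L inf_le_left (e i) = rs L inf_le_right (e j) →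
      ι.app (V i ⊓ V j) (ro inf_le_right (v j) * c) = ι.app (V i ⊓ V j) (ro inf_le_left (v i)) ∧
      ∀ g : Γ(X.left, V i ⊓ V j),
        ((P i).map (X.left.presheaf.map (homOfLE (inf_le_left : V i ⊓ V j ≤ V i)).op).hom).eval (g * c) =
        ((P j).map (X.left.presheaf.map (homOfLE (inf_le_right : V i ⊓ V j ≤ V j)).op).hom).eval g) :
    ∃ S : Γ(L, ⊤), ∀ i, ∃ a, rs L le_top S = a • e i ∧ ι.app (V i) a = ι.app (V i) (v i) := by
  haveI : X.left.IsSeparated := ⟨by rw [← terminal.comp_from X.hom]; infer_instance⟩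
  have hZr : ∀ U : X.left.Opens, _root_.IsReduced Γ(Z, ι ⁻¹ᵁ U) := fun U => inferInstance
  have hsurj : ∀ {U : X.left.Opens}, IsAffineOpen U → Function.Surjective (ι.app U).hom := fun hU =>
    ι.app_surjective _ hU
  have hker : ∀ {U : X.left.Opens}, IsAffineOpen U →
      ∀ a : Γ(X.left, U), (ι.app U).hom a = 0 → ∃ m : ℕ, sc (X := X) U ϖ ∣ a ^ m :=
    fun hU a ha => exists_dvd_pow ι hrange hϖ hU a ha
  choose g hg hg' using fun (n : ℕ) (i : J) => exists_root (ι.app (V i)).hom (sc (X := X) (V i) ϖ) (hker (hV i))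
    (hsurj (hV i)) (P i) (hv i) (hv' i) (n + 1) (app_sc_eq_zero ι hrange hϖ _) n.succ_pos
  obtain ⟨S, hS⟩ := exists_section hL hϖ V hcov (fun n i => g n i • e i) (fun n i j => by
    let W := V i ⊓ V j
    have hW : IsAffineOpen W := (hV i).inf (hV j)
    let ρi : Γ(X.left, V i) →+* Γ(X.left, W) :=
      (X.left.presheaf.map (homOfLE (inf_le_left : W ≤ V i)).op).hom
    let ρj : Γ(X.left, V j) →+* Γ(X.left, W) :=
      (X.left.presheaf.map (homOfLE (inf_le_right : W ≤ V j)).op).hom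
    obtain ⟨c, hc⟩ := (he i).exists_coeff (inf_le_left : W ≤ V i) (rs L inf_le_right (e j))
    obtain ⟨hcv, hcP⟩ := htr i j c hc
    let Q := (P i).map ρi
    have hQ : ∀ a, Q.eval (ρi a) = ρi ((P i).eval a) := fun a => eval_map_apply _ _
    have hdvd : ∀ {U : X.left.Opens} (h : W ≤ U) (a : Γ(X.left, U)), sc (X := X) U ϖ ^ (n + 1) ∣ a →
        sc (X := X) W ϖ ^ (n + 1) ∣ ro h a := fun h a ha => by
      have := map_dvd (X.left.presheaf.map (homOfLE h).op).hom ha
      rwa [map_pow, show (X.left.presheaf.map (homOfLE h).op).hom (sc (X := X) _ ϖ) = sc (X := X) W ϖ from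
        ro_sc h ϖ] at this
    obtain ⟨d, hd⟩ := root_unique (ι.app W).hom (sc (X := X) W ϖ) (hker hW) (hsurj hW) Q
      (v := ρi (v i))
      (by
        rw [hQ]
        show ι.app W (ro _ ((P i).eval (v i))) = 0
        rw [app_ro, hv]
        exact map_zero _)
      (by
        rw [derivative_map, eval_map_apply]
        show IsUnit (ι.app W (ro _ ((P i).derivative.eval (v i))))
        rw [app_ro]
        exact (hv' i).map (Z.presheaf.map (homOfLE (ι.preimage_mono (inf_le_left : W ≤ V i))).op).hom)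
      (n + 1) (g := ρi (g n i)) (g' := ρj (g n j) * c)
      (by show ι.app W (ro _ (g n i)) = ι.app W (ro _ (v i)); rw [app_ro, app_ro]; exact congrArg _ (hg n i))
      (by
        refine Eq.trans ?_ hcv
        show ι.app W (ro _ (g n j) * c) = ι.app W (ro _ (v j) * c)
        rw [map_mul, map_mul, app_ro, app_ro]
        exact congrArg (fun z => ro _ z * _) (hg n j))
      (by rw [hQ]; exact hdvd _ _ (hg' n i))
      (by rw [hcP, eval_map_apply]; exact hdvd _ _ (hg' n j))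
    refine ⟨d • rs L inf_le_left (e i), ?_⟩
    rw [rs_smul, rs_smul, ← hc, smul_smul, ← sub_smul, smul_smul, map_pow]
    exact congrArg (· • _) hd) (fun n i => by
    obtain ⟨d, hd⟩ := root_unique (ι.app (V i)).hom (sc (X := X) (V i) ϖ) (hker (hV i)) (hsurj (hV i)) (P i)
      (hv i) (hv' i) 1 (hg n i) (hg 0 i)
      ((pow_dvd_pow _ n.succ_pos).trans (hg' n i)) (hg' 0 i)
    refine ⟨d • e i, ?_⟩
    rw [← sub_smul, smul_smul, hd, pow_one])
  refine ⟨S, fun i => ?_⟩
  obtain ⟨c, hc⟩ := hS i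
  obtain ⟨b, hb⟩ := (he i).exists_coeff le_rfl c
  rw [rs_self] at hb
  refine ⟨g 0 i + sc (V i) ϖ * b, ?_, ?_⟩
  · rw [add_smul, mul_smul, hb, ← hc, add_sub_cancel]
  · rw [map_add, map_mul, app_sc_eq_zero ι hrange hϖ, zero_mul, add_zero]
    exact hg 0 i

include hrange hϖ in
/-- Roots of separable polynomials on the closed fibre are scalars. -/
theorem exists_scalar_of_root (hglob : Function.Surjective (Coh.toGlobal X.hom)) (P : R[X]) (α : Γ(Z, ⊤))
    (h : P.eval₂ (gR ι) α = 0) (h' : IsUnit (P.derivative.eval₂ (gR ι) α)) : ∃ r, gR ι r = α := by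
  choose V hV hxV using fun x : X.left => (show ∃ V : X.left.Opens, IsAffineOpen V ∧ x ∈ V from by
    obtain ⟨_, ⟨V, hV, rfl⟩, hxV, -⟩ :=
      X.left.isBasis_affineOpens.exists_subset_of_mem_open (Set.mem_univ x) isOpen_univ
    exact ⟨V, hV, hxV⟩)
  choose v hv using fun x => ι.app_surjective (V x) (hV x) (ro (le_top : ι ⁻¹ᵁ V x ≤ ⊤) α)
  have hev : ∀ (Q : R[X]) x, ι.app (V x) ((Q.map (sc (X := X) (V x))).eval (v x)) =
      ro (le_top : ι ⁻¹ᵁ V x ≤ ⊤) (Q.eval₂ (gR ι) α) := fun Q x => by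
    rw [Polynomial.eval_map]
    refine (hom_eval₂ Q _ (ι.app (V x)).hom (v x)).trans ?_
    refine Eq.trans ?_ (hom_eval₂ Q _ (Z.presheaf.map (homOfLE (le_top : ι ⁻¹ᵁ V x ≤ ⊤)).op).hom α).symm
    congr 1
    · exact RingHom.ext fun r => (ro_gR ι (V x) r).symm
    · exact hv x
  have hfr : ∀ U : X.left.Opens, IsFrame (Coh.structureModule X.left) U (1 : Γ(X.left, U)) := fun U =>
    Groth.L20.PicThick.isFrame_structure isUnit_one
  obtain ⟨S, hS⟩ := exists_section_of_roots ι hrange hϖ (Groth.L18.Ample.isInvertible_structureModule X.left)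
    V hV (fun x => ⟨x, hxV x⟩) (fun x => (1 : Γ(X.left, V x))) (fun x => hfr _)
    (fun x => P.map (sc (X := X) (V x))) v
    (fun x => by rw [hev, h]; exact map_zero _)
    (fun x => by
      rw [derivative_map, hev]
      exact h'.map (Z.presheaf.map (homOfLE (le_top : ι ⁻¹ᵁ V x ≤ ⊤)).op).hom)
    (fun x y c hc => by
      have hc1 : c = 1 := by
        have h1 : c * ro (inf_le_left : V x ⊓ V y ≤ V x) 1 = ro (inf_le_right : V x ⊓ V y ≤ V y) 1 := hc
        rwa [show ro (inf_le_left : V x ⊓ V y ≤ V x) 1 = 1 from map_one _,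
          show ro (inf_le_right : V x ⊓ V y ≤ V y) 1 = 1 from map_one _, mul_one] at h1
      subst hc1
      refine ⟨?_, fun g => ?_⟩
      · rw [mul_one, app_ro, app_ro, hv, hv, ro_ro, ro_ro]
      · rw [mul_one, Polynomial.map_map, Polynomial.map_map]
        congr 2
        exact RingHom.ext fun r => (ro_sc _ r).trans (ro_sc _ r).symm)
  obtain ⟨r, hr⟩ := hglob S
  refine ⟨r, Groth.L21.Extend.eq_of_locally (Coh.structureModule Z) (gR ι r) α fun z _ => ?_⟩
  refine ⟨ι ⁻¹ᵁ V (ι z), le_top, hxV (ι z), ?_⟩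
  show ro (le_top : ι ⁻¹ᵁ V (ι z) ≤ ⊤) (gR ι r) = ro (le_top : ι ⁻¹ᵁ V (ι z) ≤ ⊤) α
  obtain ⟨a, ha, ha'⟩ := hS (ι z)
  rw [ro_gR, ← hv, ← ha']
  congr 1
  refine Eq.trans ?_ ((show ro le_top S = a * 1 from ha).trans (mul_one a))
  exact congrArg (ro le_top) hr

include hrange hϖ in
/-- Units on the reduced closed fibre are scalars up to `h`-th powers. -/
theorem exists_unit_decomp (hglob : Function.Surjective (Coh.toGlobal X.hom))
    [Nontrivial Γ(Z, ⊤)] {h : ℕ}
    (hchar : ∀ q : ℕ, q.Prime → CharP (IsLocalRing.ResidueField R) q → ¬ q ∣ h) (u : Γ(Z, ⊤)) (hu : IsUnit u) :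
    ∃ (r : R) (w : Γ(Z, ⊤)), IsUnit r ∧ IsUnit w ∧ u = gR ι r * w ^ h := by
  let k := IsLocalRing.ResidueField R
  let g := gR (X := X) ι
  have hgϖ : g ϖ = 0 := (gR_eq ι ϖ).trans (app_sc_eq_zero ι hrange hϖ ⊤)
  letI : Algebra R Γ(Z, ⊤) := g.toAlgebra
  let gk : k →+* Γ(Z, ⊤) := Ideal.Quotient.lift (IsLocalRing.maximalIdeal R) g fun r hr => by
    rw [hϖ.maximalIdeal_eq, Ideal.mem_span_singleton'] at hr
    obtain ⟨c, rfl⟩ := hr
    rw [map_mul, hgϖ, mul_zero]
  letI : Algebra k Γ(Z, ⊤) := gk.toAlgebra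
  haveI : IsScalarTower R k Γ(Z, ⊤) := IsScalarTower.of_algebraMap_eq fun r => rfl
  haveI : Module.Finite R Γ(Z, ⊤) := by
    have h0 : Groth.L00.ProperNorm.glob (ι ≫ X.hom) = g := RingHom.ext fun r => rfl
    have hfin := Groth.L00.ProperNorm.finite_toGlobal (ι ≫ X.hom)
    rw [h0] at hfin
    exact hfin
  haveI : Module.Finite k Γ(Z, ⊤) := Module.Finite.of_restrictScalars_finite R k _
  obtain ⟨r, w, hrw⟩ := exists_scalar_mul_pow (k := k) (A := Γ(Z, ⊤)) (fun a P ha ha' => by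
    obtain ⟨P₀, rfl⟩ := Polynomial.map_surjective (IsLocalRing.residue R) IsLocalRing.residue_surjective P
    have hev : ∀ Q : R[X], aeval a (Q.map (IsLocalRing.residue R)) = Q.eval₂ g a := fun Q => by
      rw [aeval_def, eval₂_map]
      rfl
    rw [hev] at ha
    rw [derivative_map, hev] at ha'
    obtain ⟨r, hr⟩ := exists_scalar_of_root ι hrange hϖ hglob P₀ a ha ha'
    exact ⟨IsLocalRing.residue R r, hr⟩) hchar hu.unit
  obtain ⟨r₀, hr₀⟩ := IsLocalRing.residue_surjective (r : k)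
  refine ⟨r₀, w, ?_, w.isUnit, ?_⟩
  · exact (IsLocalRing.residue_ne_zero_iff_isUnit r₀).1 (hr₀ ▸ r.ne_zero)
  · refine hrw.trans ?_
    rw [← hr₀]
    rfl

end Groth.L26.TorsRed
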