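import Groth.Agent.L26.TorsRed.Fibre
import Groth.Agent.L21.Mero.ClassMap

/-!
Torsion invertible modules trivial on the reduced closed fibre are trivial.
-/

set_option autoImplicit false
set_option backward.isDefEq.respectTransparency false
set_option linter.style.haveILetI false
set_option linter.unusedSectionVars false
universe u

open CategoryTheory CategoryTheory.Limits AlgebraicGeometry TopologicalSpace Opposite Polynomial

noncomputable section

namespace Groth.L26.TorsRed

open Groth.L18.Frame (IsFrame rs ro rs_rs rs_smul ro_ro ro_mul rs_self pull pull_rs pull_smul isUnit_of_isFrame)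
open Groth.L18.SecTwistExt (epow epow_smul epow_rs)
open Groth.L20.PicThick (app_ro ro_pow)

variable {R : Type u} [CommRing R] [IsDomain R] [IsDiscreteValuationRing R]
  {X : Over (Spec (CommRingCat.of R))} [IsProper X.hom] [IsLocallyNoetherian X.left] [Flat X.hom]
  [IsIntegral X.left]
  {Z : Scheme.{u}} (ι : Z ⟶ X.left) [IsClosedImmersion ι] [AlgebraicGeometry.IsReduced Z]
  (hrange : Set.range ι = Models.specialFibreSet R X)

include hrange

/-- The statement for any reduced closed subscheme supported on the closed fibre. -/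
theorem nonempty_iso_structure (hglob : Function.Surjective (Coh.toGlobal X.hom)) {h : ℕ} (hh : 0 < h)
    (hchar : ∀ q : ℕ, q.Prime → CharP (IsLocalRing.ResidueField R) q → ¬ q ∣ h)
    {L : X.left.Modules} (hL : PicF.IsInvertible L)
    (τ : CohB1.tensorPow L h ≅ Coh.structureModule X.left)
    (triv : (Scheme.Modules.pullback ι).obj L ≅ Coh.structureModule Z) :
    Nonempty (L ≅ Coh.structureModule X.left) := by
  obtain ⟨ϖ, hϖ⟩ := IsDiscreteValuationRing.exists_irreducible R
  haveI : X.left.IsSeparated := ⟨by rw [← terminal.comp_from X.hom]; infer_instance⟩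
  obtain ⟨x₀, hx₀, -⟩ := exists_specializes (X := X) (genericPoint X.left)
  rw [← hrange] at hx₀
  obtain ⟨z₀, -⟩ := hx₀
  haveI : Nonempty (⊤ : Z.Opens).toScheme := ⟨⟨z₀, trivial⟩⟩
  haveI : Nontrivial Γ(Z, ⊤) := inferInstance
  -- frames
  have hloc : ∀ x : X.left, ∃ (V : X.left.Opens) (e : Γ(L, V)), IsAffineOpen V ∧ x ∈ V ∧ IsFrame L V e := fun x => by
    obtain ⟨W, e, hxW, he⟩ := Groth.L18.Frame.exists_frame hL x
    obtain ⟨_, ⟨V, hV, rfl⟩, hxV, hVW⟩ := X.left.isBasis_affineOpens.exists_subset_of_mem_open hxW W.2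
    exact ⟨V, rs L hVW e, hV, hxV, he.mono _⟩
  choose V e hV hxV he using hloc
  let w : ∀ x, Γ(X.left, V x) := fun x => τ.hom.app (V x) (epow (e x) h)
  have hw : ∀ x, IsUnit (w x) := fun x => by
    have hf := Groth.L21.Mero.isFrame_of_iso τ (Groth.L20.ResDescent.isFrame_epow (he x) h)
    obtain ⟨a, ha⟩ := hf.exists_coeff le_rfl (show Γ(Coh.structureModule X.left, V x) from (1 : Γ(X.left, V x)))
    rw [rs_self] at ha
    exact IsUnit.of_mul_eq_one a ((mul_comm _ _).trans ha)
  let L' := (Scheme.Modules.pullback ι).obj L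
  let s₀ : Γ(L', ⊤) := triv.inv.app ⊤ (show Γ(Coh.structureModule Z, ⊤) from (1 : Γ(Z, ⊤)))
  have hs₀ : IsFrame L' ⊤ s₀ := Groth.L21.Mero.isFrame_of_iso triv.symm (Groth.L20.PicThick.isFrame_structure isUnit_one)
  have he' : ∀ x, IsFrame L' (ι ⁻¹ᵁ V x) (pull ι L (V x) (e x)) := fun x =>
    Groth.L18.Frame.IsFrame.pullback ι L (he x)
  choose v' hv'₀ using fun x => (he' x).exists_coeff le_rfl (rs L' (le_top : ι ⁻¹ᵁ V x ≤ ⊤) s₀)
  have hv' : ∀ x, v' x • pull ι L (V x) (e x) = rs L' (le_top : ι ⁻¹ᵁ V x ≤ ⊤) s₀ := fun x => by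
    rw [← hv'₀ x, rs_self]
  have hv'u : ∀ x, IsUnit (v' x) := fun x =>
    isUnit_of_isFrame (he' x) (by rw [hv']; exact hs₀.mono _)
  -- transition rules
  have htr : ∀ (x y : X.left) (c : Γ(X.left, V x ⊓ V y)),
      c • rs L inf_le_left (e x) = rs L inf_le_right (e y) →
      ro (ι.preimage_mono (inf_le_right : V x ⊓ V y ≤ V y)) (v' y) * ι.app (V x ⊓ V y) c =
          ro (ι.preimage_mono (inf_le_left : V x ⊓ V y ≤ V x)) (v' x) ∧
        ro (inf_le_right : V x ⊓ V y ≤ V y) (w y) = c ^ h * ro (inf_le_left : V x ⊓ V y ≤ V x) (w x) := by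
    intro x y c hc
    have hw' : ∀ (z : X.left) (hz : V x ⊓ V y ≤ V z),
        τ.hom.app (V x ⊓ V y) (epow (rs L hz (e z)) h) = ro hz (w z) := fun z hz => by
      rw [← epow_rs]
      exact Groth.L19.ProjBdl.app_rs τ.hom _ _
    constructor
    · have h1 := congrArg (pull ι L (V x ⊓ V y)) hc
      rw [pull_smul, ← pull_rs, ← pull_rs] at h1
      have h2 := congrArg (rs L' (ι.preimage_mono (inf_le_left : V x ⊓ V y ≤ V x))) (hv' x)
      have h3 := congrArg (rs L' (ι.preimage_mono (inf_le_right : V x ⊓ V y ≤ V y))) (hv' y)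
      rw [rs_smul, rs_rs] at h2 h3
      rw [← h1, ← mul_smul] at h3
      exact (he' x).inj (ι.preimage_mono inf_le_left) (h3.trans h2.symm)
    · rw [← hw' y inf_le_right, ← hc, epow_smul, Scheme.Modules.Hom.app_smul, hw' x inf_le_left]
      rfl
  -- the global unit
  obtain ⟨u₀, hu₀⟩ := Groth.L21.Extend.exists_glue (Coh.structureModule Z) (fun x => ι ⁻¹ᵁ V x) ⊤
    (fun _ => le_top) (fun z _ => ⟨ι z, hxV (ι z)⟩) (fun x => ι.app (V x) (w x) * v' x ^ h) fun x y => by
      obtain ⟨c, hc⟩ := (he x).exists_coeff (inf_le_left : V x ⊓ V y ≤ V x) (rs L inf_le_right (e y))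
      obtain ⟨h1, h2⟩ := htr x y c hc
      show ro (ι.preimage_mono (inf_le_left : V x ⊓ V y ≤ V x)) (ι.app (V x) (w x) * v' x ^ h) =
        ro (ι.preimage_mono (inf_le_right : V x ⊓ V y ≤ V y)) (ι.app (V y) (w y) * v' y ^ h)
      rw [ro_mul, ro_mul, ro_pow, ro_pow, ← app_ro ι (inf_le_left : V x ⊓ V y ≤ V x),
        ← app_ro ι (inf_le_right : V x ⊓ V y ≤ V y), h2, ← h1, map_mul, map_pow, mul_pow]
      ring
  let u : Γ(Z, ⊤) := u₀
  have hu : ∀ x, ro (le_top : ι ⁻¹ᵁ V x ≤ ⊤) u = ι.app (V x) (w x) * v' x ^ h := hu₀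
  have huu : IsUnit u := by
    refine Z.toRingedSpace.isUnit_of_isUnit_germ ⊤ u fun z _ => ?_
    have := ((((hw (ι z)).map (ι.app (V (ι z))).hom).mul ((hv'u (ι z)).pow h))).map
      (Z.presheaf.germ (ι ⁻¹ᵁ V (ι z)) z (hxV (ι z))).hom
    rw [← hu] at this
    rwa [show (Z.presheaf.germ (ι ⁻¹ᵁ V (ι z)) z (hxV (ι z))).hom (ro le_top u) =
      Z.presheaf.germ ⊤ z trivial u from TopCat.Presheaf.germ_res_apply Z.presheaf _ _ _ _] at this
  obtain ⟨r, ω, hr, hω, huω⟩ := exists_unit_decomp ι hrange hϖ hglob hchar u huu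
  obtain ⟨ω', hω'⟩ := hω.exists_right_inv
  choose v hv using fun x => ι.app_surjective (V x) (hV x) (v' x * ro (le_top : ι ⁻¹ᵁ V x ≤ ⊤) ω')
  have hvu : ∀ x, IsUnit (ι.app (V x) (v x)) := fun x => by
    rw [hv]
    exact (hv'u x).mul ((IsUnit.of_mul_eq_one_right ω hω').map
      (Z.presheaf.map (homOfLE (le_top : ι ⁻¹ᵁ V x ≤ ⊤)).op).hom)
  have hwv : ∀ x, ι.app (V x) (w x) * ι.app (V x) (v x) ^ h = ι.app (V x) (sc (X := X) (V x) r) := fun x => by
    rw [hv, mul_pow, ← mul_assoc, ← hu, ← ro_gR, huω, ← ro_pow, ← ro_mul, mul_assoc, ← mul_pow, hω',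
      one_pow, mul_one]
  -- `h` is a unit
  have hhu : IsUnit ((h : ℕ) : R) := by
    rw [← IsLocalRing.residue_ne_zero_iff_isUnit, map_natCast]
    intro h0
    obtain ⟨q, hq⟩ := CharP.exists (IsLocalRing.ResidueField R)
    have hdvd := (CharP.cast_eq_zero_iff (IsLocalRing.ResidueField R) q h).1 h0
    rcases CharP.char_is_prime_or_zero (IsLocalRing.ResidueField R) q with hp | hp
    · exact hchar q hp hq hdvd
    · subst hp
      rw [Nat.zero_dvd] at hdvd
      omega
  -- lift the section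
  obtain ⟨S, hS⟩ := exists_section_of_roots ι hrange hϖ hL V hV (fun x => ⟨x, hxV x⟩) e he
    (fun x => C (w x) * Polynomial.X ^ h - C (sc (X := X) (V x) r)) v
    (fun x => by
      simp only [eval_sub, eval_mul, eval_C, eval_pow, eval_X, map_sub, map_mul, map_pow]
      rw [hwv, sub_self])
    (fun x => by
      simp only [derivative_sub, derivative_C, sub_zero, derivative_C_mul, derivative_X_pow, eval_mul, eval_C,
        eval_pow, eval_X, map_mul, map_pow]
      refine ((hw x).map (ι.app (V x)).hom).mul (IsUnit.mul ?_ ((hvu x).pow _))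
      have := (hhu.map (sc (X := X) (V x))).map (ι.app (V x)).hom
      rwa [map_natCast] at this)
    (fun x y c hc => by
      obtain ⟨h1, h2⟩ := htr x y c hc
      constructor
      · rw [map_mul, app_ro, app_ro, hv, hv, ro_mul, ro_mul, ro_ro, ro_ro, ← h1]
        ring
      · intro g
        simp only [Polynomial.map_sub, Polynomial.map_mul, Polynomial.map_pow, map_C, map_X, eval_sub, eval_mul,
          eval_C, eval_pow, eval_X]
        show ro inf_le_left (w x) * (g * c) ^ h - ro inf_le_left (sc (V x) r) =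
          ro inf_le_right (w y) * g ^ h - ro inf_le_right (sc (V y) r)
        rw [ro_sc, ro_sc, h2, mul_pow]
        ring)
  choose a ha ha' using hS
  -- the section generates everywhere
  have hcov : ∀ y : X.left, ∃ x, y ∈ X.left.basicOpen (a x) := fun y => by
    obtain ⟨x, hx, hyx⟩ := exists_specializes (X := X) y
    rw [← hrange] at hx
    obtain ⟨z, rfl⟩ := hx
    refine ⟨ι z, hyx.mem_open (X.left.basicOpen (a (ι z))).2 ?_⟩
    show z ∈ ι ⁻¹ᵁ X.left.basicOpen (a (ι z))
    rw [Scheme.preimage_basicOpen, ha', Scheme.basicOpen_of_isUnit _ (hvu _)]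
    exact hxV (ι z)
  let N : X.left → X.left.Opens := fun x => X.left.basicOpen (a x)
  have hfr : ∀ x, IsFrame L (N x) (rs L (le_top : N x ≤ ⊤) S) := fun x => by
    have hle : N x ≤ V x := X.left.basicOpen_le (a x)
    rw [show rs L (le_top : N x ≤ ⊤) S = rs L hle (rs L (le_top : V x ≤ ⊤) S) from (rs_rs _ _ _ _).symm, ha, rs_smul]
    exact ((he x).mono hle).smul_unit (RingedSpace.isUnit_res_basicOpen X.left.toRingedSpace (a x))
  refine Groth.L22.PicGlue.nonempty_iso_of_gens N (e := fun x => rs L (le_top : N x ≤ ⊤) S)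
    (e' := fun x => (1 : Γ(X.left, N x))) hfr (fun x => Groth.L20.PicThick.isFrame_structure isUnit_one) hcov
    fun x y W hx hy c hc => ?_
  have hc' : c • rs L hx (rs L (le_top : N x ≤ ⊤) S) = rs L hy (rs L (le_top : N y ≤ ⊤) S) := hc
  rw [rs_rs, rs_rs] at hc'
  have h1 : c = 1 := (hfr x).inj hx (by rw [one_smul, rs_rs]; exact hc')
  show c * ro hx 1 = ro hy 1
  rw [h1, one_mul, show ro hx 1 = 1 from map_one _, show ro hy 1 = 1 from map_one _]

end Groth.L26.TorsRed
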